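import Mathlib

/-!
A lattice lemma: for large `q` the lattice `ℤ (1, d) + q ℤ^(k+1)` meets the open ball with diameter `[0, q e₀]`.
-/

set_option autoImplicit false

namespace CfsgLib.LatB

open Filter Topology

variable {E : Type*} [NormedAddCommGroup E] [InnerProductSpace ℝ E] [FiniteDimensional ℝ E]

/-- a closed subgroup is discrete or contains a line -/
theorem line_or_discrete (H : AddSubgroup E) (hH : IsClosed (H : Set E)) :
    (∃ u : E, u ≠ 0 ∧ ∀ t : ℝ, t • u ∈ H) ∨ ∃ ε > 0, ∀ x ∈ H, ‖x‖ < ε → x = 0 := by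
  refine or_iff_not_imp_right.2 fun h => ?_
  push Not at h
  choose x hx hx1 hx0 using fun n : ℕ => h (1 / ((n : ℝ) + 1)) Nat.one_div_pos_of_nat
  have hp : ∀ n, 0 < ‖x n‖ := fun n => norm_pos_iff.2 (hx0 n)
  obtain ⟨u, hu, f, hf, hl⟩ := (isCompact_sphere (0 : E) 1).tendsto_subseq (x := fun n => ‖x n‖⁻¹ • x n)
    fun n => by simp [norm_smul, (hp n).ne']
  have h0 : Tendsto (fun n => ‖x (f n)‖) atTop (𝓝 0) :=
    (squeeze_zero (fun n => norm_nonneg _) (fun n => (hx1 n).le) tendsto_one_div_add_atTop_nhds_zero_nat).comp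
      hf.tendsto_atTop
  refine ⟨u, fun e => by simp [e] at hu, fun t => ?_⟩
  have h1 : Tendsto (fun n => (⌊t / ‖x (f n)‖⌋ : ℝ) * ‖x (f n)‖) atTop (𝓝 t) := by
    refine tendsto_of_tendsto_of_tendsto_of_le_of_le (g := fun n => t - ‖x (f n)‖) (h := fun _ => t)
      (by simpa using tendsto_const_nhds.sub h0) tendsto_const_nhds (fun n => ?_) fun n => ?_
    · have := Int.sub_one_lt_floor (t / ‖x (f n)‖)
      have := mul_lt_mul_of_pos_right this (hp (f n))
      rw [sub_mul, div_mul_cancel₀ _ (hp _).ne', one_mul] at this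
      exact this.le
    · have := mul_le_mul_of_nonneg_right (Int.floor_le (t / ‖x (f n)‖)) (hp (f n)).le
      rwa [div_mul_cancel₀ _ (hp _).ne'] at this
  refine hH.mem_of_tendsto (h1.smul hl) (Eventually.of_forall fun n => ?_)
  simp only [Function.comp, smul_smul, mul_inv_cancel_right₀ (hp _).ne', Int.cast_smul_eq_zsmul]
  exact H.zsmul_mem (hx _) _

theorem not_surj (H : AddSubgroup E) (hH : IsClosed (H : Set E)) (φ : E →ₗ[ℝ] ℝ) (h : ∀ x ∈ H, φ x ≤ ‖x‖ ^ 2)
    (hs : ∀ s ∈ Set.Icc (0 : ℝ) 1, ∃ x ∈ H, φ x = s) : False := by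
  let V : Submodule ℝ E :=
    { carrier := {v | ∀ t : ℝ, t • v ∈ H}
      add_mem' := fun ha hb t => by rw [smul_add]; exact add_mem (ha t) (hb t)
      zero_mem' := fun t => by rw [smul_zero]; exact zero_mem _
      smul_mem' := fun c v hv t => by rw [smul_smul]; exact hv _ }
  have hV : ∀ v ∈ V, φ v = 0 := fun v hv => by
    have k := h _ (hv (φ v / (‖v‖ ^ 2 + 1)))
    have p : 0 < ‖v‖ ^ 2 + 1 := by positivity
    rw [map_smul, norm_smul, smul_eq_mul, mul_pow, Real.norm_eq_abs, sq_abs, div_pow, div_mul_eq_mul_div,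
      div_mul_eq_mul_div, div_le_div_iff₀ p (by positivity)] at k
    have : φ v ^ 2 * (‖v‖ ^ 2 + 1) ≤ 0 := by nlinarith
    exact pow_eq_zero_iff two_ne_zero |>.1 (le_antisymm (nonpos_of_mul_nonpos_left this p) (sq_nonneg _))
  let L : AddSubgroup E := H ⊓ Vᗮ.toAddSubgroup
  have hL : IsClosed (L : Set E) := hH.inter V.isClosed_orthogonal
  obtain ⟨u, u0, hu⟩ | ⟨ε, ε0, hε⟩ := line_or_discrete L hL
  · have u1 : u ∈ V := fun t => (hu t).1
    have u2 : u ∈ Vᗮ := by simpa using (hu 1).2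
    exact u0 (inner_self_eq_zero.1 (V.inner_right_of_mem_orthogonal u1 u2))
  have hd : DiscreteTopology L := by
    refine discreteTopology_iff_isOpen_singleton_zero.2 ?_
    have : ({0} : Set L) = Subtype.val ⁻¹' Metric.ball (0 : E) ε := by
      ext x
      simp only [Set.mem_singleton_iff, Set.mem_preimage, mem_ball_zero_iff]
      exact ⟨fun e => by simpa [e] using ε0, fun e => Subtype.ext (hε _ x.2 e)⟩
    rw [this]
    exact Metric.isOpen_ball.preimage continuous_subtype_val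
  have hc : Countable L := countable_of_Lindelof_of_discrete
  have : (Set.Icc (0 : ℝ) 1).Countable := by
    refine (Set.countable_range fun x : L => φ x).mono fun s hs' => ?_
    obtain ⟨x, hx, rfl⟩ := hs s hs'
    obtain ⟨a, ha, b, hb, rfl⟩ := V.exists_add_mem_mem_orthogonal x
    refine ⟨⟨b, ?_, hb⟩, by simp [hV a ha]⟩
    simpa using H.sub_mem hx (by simpa using ha 1 : a ∈ H)
  exact absurd (Cardinal.le_aleph0_iff_set_countable.2 this)
    (by rw [Cardinal.mk_Icc_real zero_lt_one]; exact Cardinal.aleph0_lt_continuum.not_ge)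

theorem exists_violation (k : ℕ) : ∃ Q : ℕ, ∀ q : ℕ, Q < q → ∀ d : Fin k → ℤ, ∃ (l : ℤ) (c : Fin k → ℤ),
    (∀ i, (q : ℤ) ∣ c i - l * d i) ∧ l ^ 2 + ∑ i, c i ^ 2 < q * l := by
  by_contra hcon
  push Not at hcon
  choose q hq d hd using hcon
  have q0 : ∀ n, (0 : ℝ) < q n := fun n => by exact_mod_cast (Nat.zero_le n).trans_lt (hq n)
  let Λ : ℕ → Set (EuclideanSpace ℝ (Fin (k + 1))) := fun n => {x | ∃ (l : ℤ) (c : Fin k → ℤ),
    (∀ i, (q n : ℤ) ∣ c i - l * d n i) ∧ x 0 = l / q n ∧ ∀ i : Fin k, x i.succ = c i / q n}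
  have hΛ : ∀ n, ∀ x ∈ Λ n, x 0 ≤ ‖x‖ ^ 2 := by
    rintro n x ⟨l, c, h1, h2, h3⟩
    have k1 : (q n : ℝ) * l ≤ l ^ 2 + ∑ i, (c i : ℝ) ^ 2 := by exact_mod_cast hd n l c h1
    rw [EuclideanSpace.real_norm_sq_eq, Fin.sum_univ_succ, h2]
    simp only [h3, div_pow, ← Finset.sum_div, ← add_div]
    rw [div_le_div_iff₀ (q0 n) (pow_pos (q0 n) 2)]
    nlinarith [q0 n]
  let U : Ultrafilter ℕ := hyperfilter ℕ
  let H : AddSubgroup (EuclideanSpace ℝ (Fin (k + 1))) :=
    { carrier := {x | ∀ ε > 0, ∀ᶠ n in U, ∃ y ∈ Λ n, ‖x - y‖ < ε}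
      zero_mem' := fun ε hε => Eventually.of_forall fun n => ⟨0, ⟨0, 0, by simp, by simp, by simp⟩, by simpa using hε⟩
      add_mem' := fun {a b} ha hb ε hε => by
        filter_upwards [ha (ε / 2) (half_pos hε), hb (ε / 2) (half_pos hε)]
        rintro n ⟨y, ⟨l, c, h1, h2, h3⟩, hy⟩ ⟨z, ⟨l', c', h1', h2', h3'⟩, hz⟩
        refine ⟨y + z, ⟨l + l', c + c', fun i => ?_, by simp [h2, h2', add_div], fun i => by simp [h3, h3', add_div]⟩, ?_⟩
        · exact (by simp only [Pi.add_apply]; ring : c i - l * d n i + (c' i - l' * d n i) = (c + c') i - (l + l') * d n i) ▸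
            dvd_add (h1 i) (h1' i)
        · rw [add_sub_add_comm]; linarith [norm_add_le (a - y) (b - z)]
      neg_mem' := fun {a} ha ε hε => by
        filter_upwards [ha ε hε]
        rintro n ⟨y, ⟨l, c, h1, h2, h3⟩, hy⟩
        refine ⟨-y, ⟨-l, -c, fun i => ?_, by simp [h2, neg_div], fun i => by simp [h3, neg_div]⟩, ?_⟩
        · exact (by simp only [Pi.neg_apply]; ring : -(c i - l * d n i) = (-c) i - -l * d n i) ▸ (h1 i).neg_right
        · rwa [neg_sub_neg, norm_sub_rev] }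
  have hH : IsClosed (H : Set (EuclideanSpace ℝ (Fin (k + 1)))) := by
    refine isClosed_of_closure_subset fun x hx ε hε => ?_
    obtain ⟨z, hz, hxz⟩ := Metric.mem_closure_iff.1 hx (ε / 2) (half_pos hε)
    filter_upwards [hz (ε / 2) (half_pos hε)]
    rintro n ⟨y, hy, hzy⟩
    rw [dist_eq_norm] at hxz
    exact ⟨y, hy, by linarith [norm_sub_le_norm_sub_add_norm_sub x z y]⟩
  refine not_surj H hH (EuclideanSpace.projₗ 0) (fun x hx => ?_) fun s hs => ?_
  · have hcl : IsClosed {x : EuclideanSpace ℝ (Fin (k + 1)) | x 0 ≤ ‖x‖ ^ 2} := isClosed_le (by fun_prop) (by fun_prop)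
    refine hcl.closure_subset (Metric.mem_closure_iff.2 fun ε hε => ?_)
    obtain ⟨n, y, hy, hxy⟩ := (hx ε hε).exists
    exact ⟨y, hΛ n y hy, by rwa [dist_eq_norm]⟩
  · let y : ℕ → EuclideanSpace ℝ (Fin (k + 1)) := fun n => WithLp.toLp 2
      (Fin.cons ((⌊s * q n⌋ : ℝ) / q n) fun i => ((⌊s * q n⌋ * d n i % q n : ℤ) : ℝ) / q n)
    have hy : ∀ n, y n ∈ Λ n := fun n => ⟨⌊s * q n⌋, fun i => ⌊s * q n⌋ * d n i % q n,
      fun i => dvd_sub_comm.1 (Int.ModEq.dvd (Int.mod_modEq _ _)), by simp [y], fun i => by simp [y]⟩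
    have hb : ∀ n, y n ∈ Metric.closedBall (0 : EuclideanSpace ℝ (Fin (k + 1))) (k + 1) := fun n => by
      have h1 : ∀ i, |y n i| ≤ 1 := by
        refine Fin.cases ?_ fun i => ?_
        · have a1 := Int.floor_le (s * q n)
          have a2 : (0 : ℝ) ≤ ⌊s * q n⌋ := by exact_mod_cast Int.floor_nonneg.2 (mul_nonneg hs.1 (q0 n).le)
          simp only [y, Fin.cons_zero]
          rw [abs_of_nonneg (div_nonneg a2 (q0 n).le), div_le_one (q0 n)]
          nlinarith [hs.2, q0 n]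
        · have q1 : (0 : ℤ) < q n := by exact_mod_cast q0 n
          have a1 : ((⌊s * q n⌋ * d n i % q n : ℤ) : ℝ) ≤ q n := by exact_mod_cast (Int.emod_lt_of_pos _ q1).le
          have a2 : (0 : ℝ) ≤ (⌊s * q n⌋ * d n i % q n : ℤ) := by exact_mod_cast Int.emod_nonneg _ q1.ne'
          simp only [y, Fin.cons_succ]
          rwa [abs_of_nonneg (div_nonneg a2 (q0 n).le), div_le_one (q0 n)]
      rw [mem_closedBall_zero_iff, ← pow_le_pow_iff_left₀ (norm_nonneg _) (by positivity) two_ne_zero,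
        EuclideanSpace.real_norm_sq_eq]
      have h2 : ∑ i, y n i ^ 2 ≤ ∑ _i : Fin (k + 1), (1 : ℝ) :=
        Finset.sum_le_sum fun i _ => (sq_le_one_iff_abs_le_one _).2 (h1 i)
      simp only [Finset.sum_const, Finset.card_univ, Fintype.card_fin, nsmul_eq_mul, mul_one, Nat.cast_add,
        Nat.cast_one] at h2
      nlinarith [(Nat.cast_nonneg k : (0 : ℝ) ≤ k)]
    obtain ⟨x, -, hx⟩ := (isCompact_closedBall _ _).ultrafilter_le_nhds (U.map y)
      (le_principal_iff.2 (mem_map.2 (Eventually.of_forall hb)))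
    have hx' : Tendsto y U (𝓝 x) := hx
    refine ⟨x, fun ε hε => ?_, ?_⟩
    · filter_upwards [hx'.eventually (Metric.ball_mem_nhds x hε)] with n hn
      exact ⟨y n, hy n, by rwa [← dist_eq_norm, dist_comm]⟩
    · have t1 : Tendsto (fun n => y n 0) U (𝓝 (x 0)) := ((EuclideanSpace.proj (𝕜 := ℝ) 0).continuous.tendsto x).comp hx'
      have t2 : Tendsto (fun n => y n 0) atTop (𝓝 s) := by
        refine tendsto_of_tendsto_of_tendsto_of_le_of_le (g := fun n : ℕ => s - 1 / ((n : ℝ) + 1)) (h := fun _ => s)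
          (by simpa using (tendsto_const_nhds (x := s)).sub tendsto_one_div_add_atTop_nhds_zero_nat) tendsto_const_nhds
          (fun n => ?_) fun n => ?_
        · have a1 := Int.sub_one_lt_floor (s * q n)
          have a2 : (n : ℝ) + 1 ≤ q n := by exact_mod_cast hq n
          have a3 := one_div_le_one_div_of_le (by positivity) a2
          simp only [y, Fin.cons_zero]
          rw [le_div_iff₀ (q0 n)]
          have a4 : 1 / (q n : ℝ) * q n = 1 := one_div_mul_cancel (q0 n).ne'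
          nlinarith [q0 n]
        · simp only [y, Fin.cons_zero]
          rw [div_le_iff₀ (q0 n)]
          exact Int.floor_le _
      exact tendsto_nhds_unique t1 (t2.mono_left (hyperfilter_le_cofinite.trans Nat.cofinite_eq_atTop.le))

end CfsgLib.LatB
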